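import Groth.Agent.FinHomLib.Glue
import Mathlib.AlgebraicGeometry.Sites.Representability

/-!
# A Zariski sheaf over a base covered by representable open subfunctors is representable
-/

set_option autoImplicit false
set_option linter.style.haveILetI false
set_option linter.unusedSectionVars false
set_option backward.isDefEq.respectTransparency false
set_option backward.isDefEq.respectTransparency.types false

universe u

open CategoryTheory CategoryTheory.Limits AlgebraicGeometry Opposite TopologicalSpace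
open Groth.Agent.FinHom (IsZarSheaf)

noncomputable section

namespace RepCoverLib

variable {S : Scheme.{u}} (Φ : (Over S)ᵒᵖ ⥤ Type u)

/-- A point of the base together with an element over it. -/
structure Pt (T : Scheme.{u}) : Type u where
  /-- The base point. -/
  t : T ⟶ S
  /-- The element. -/
  e : Φ.obj (op (Over.mk t))

variable {Φ}

theorem map_congr_left {T T' : Over S} {f g : T' ⟶ T} (h : f.left = g.left) (x : Φ.obj (op T)) :
    Φ.map f.op x = Φ.map g.op x := by rw [Over.OverMorphism.ext h]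

theorem map_map {T T' T'' : Over S} (f : T' ⟶ T) (g : T'' ⟶ T') (x : Φ.obj (op T)) :
    Φ.map g.op (Φ.map f.op x) = Φ.map (g ≫ f).op x := by rw [op_comp, Functor.map_comp_apply]

theorem Pt.ext' {T : Scheme.{u}} {P Q : Pt Φ T} (h : P.t = Q.t)
    (he : Φ.map (Over.homMk (𝟙 T) ((Category.id_comp _).trans h.symm) : Over.mk P.t ⟶ Over.mk Q.t).op Q.e = P.e) :
    P = Q := by
  obtain ⟨t, e⟩ := P
  obtain ⟨t', e'⟩ := Q
  cases h
  have : (Over.homMk (𝟙 T) (Category.id_comp t) : Over.mk t ⟶ Over.mk t) = 𝟙 _ := Over.OverMorphism.ext rfl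
  have he' : Φ.map (Over.homMk (𝟙 T) (Category.id_comp t) : Over.mk t ⟶ Over.mk t).op e' = e := he
  rw [this, op_id, Functor.map_id_apply] at he'
  subst he'
  rfl

theorem Pt.e_eq {T : Scheme.{u}} {P Q : Pt Φ T} (h : P = Q) :
    Φ.map (Over.homMk (𝟙 T) ((Category.id_comp _).trans (congrArg Pt.t h).symm) :
      Over.mk P.t ⟶ Over.mk Q.t).op Q.e = P.e := by
  subst h
  exact (map_congr_left (g := 𝟙 _) rfl _).trans (by rw [op_id, Functor.map_id_apply])

theorem Pt.map_eq {T : Scheme.{u}} {P Q : Pt Φ T} (h : P = Q) {R : Over S} (f : R ⟶ Over.mk P.t)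
    (g : R ⟶ Over.mk Q.t) (hfg : f.left = g.left) : Φ.map f.op P.e = Φ.map g.op Q.e := by
  subst h
  exact map_congr_left hfg _

/-- Restriction of a point. -/
def Pt.map {T T' : Scheme.{u}} (h : T' ⟶ T) (P : Pt Φ T) : Pt Φ T' where
  t := h ≫ P.t
  e := Φ.map (Over.homMk h rfl : Over.mk (h ≫ P.t) ⟶ Over.mk P.t).op P.e

theorem Pt.map_id {T : Scheme.{u}} (P : Pt Φ T) : P.map (𝟙 T) = P :=
  Pt.ext' (Category.id_comp _) (map_congr_left rfl _)

theorem Pt.map_map {T T' T'' : Scheme.{u}} (h : T' ⟶ T) (h' : T'' ⟶ T') (P : Pt Φ T) :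
    (P.map h).map h' = P.map (h' ≫ h) :=
  Pt.ext' (Category.assoc _ _ _).symm (by
    show Φ.map _ (Φ.map _ P.e) = Φ.map _ (Φ.map _ P.e)
    refine (RepCoverLib.map_map _ _ _).trans (Eq.trans ?_ (RepCoverLib.map_map _ _ _).symm)
    exact map_congr_left (by simp) _)

variable (Φ) in
/-- The functor on schemes of points of the base with an element over them. -/
def ptF : Scheme.{u}ᵒᵖ ⥤ Type u where
  obj T := Pt Φ T.unop
  map h := TypeCat.ofHom fun P => P.map h.unop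
  map_id T := by
    ext P
    exact P.map_id
  map_comp h h' := by
    ext P
    exact (P.map_map _ _).symm

theorem isSheaf_ptF (hΦ : IsZarSheaf Φ) : Presheaf.IsSheaf Scheme.zariskiTopology (ptF Φ) := by
  rw [isSheaf_iff_isSheaf_of_type, Precoverage.isSheaf_toGrothendieck_iff_of_isStableUnderBaseChange_of_small.{u}]
  intro T (𝒰 : T.OpenCover)
  refine (Presieve.isSheafFor_arrows_iff _ _).2 fun a ha => ?_
  have ha' : ∀ i j, (a i).map (pullback.fst (𝒰.f i) (𝒰.f j)) = (a j).map (pullback.snd (𝒰.f i) (𝒰.f j)) :=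
    fun i j => ha i j _ _ _ pullback.condition
  let t : T ⟶ S := 𝒰.glueMorphisms (fun i => (a i).t) fun i j => congrArg Pt.t (ha' i j)
  have ht : ∀ i, 𝒰.f i ≫ t = (a i).t := fun i => Scheme.Cover.ι_glueMorphisms _ _ _ i
  let g : ∀ i, Over.mk (a i).t ⟶ Over.mk t := fun i => Over.homMk (𝒰.f i) (ht i)
  have hg : ∀ i, IsOpenImmersion (g i).left := fun i => inferInstanceAs (IsOpenImmersion (𝒰.f i))
  have hcov : ∀ x : T, ∃ i, x ∈ Set.range (g i).left := fun x => ⟨_, 𝒰.covers x⟩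
  obtain ⟨e, he⟩ := hΦ.glue g hg hcov (fun i => (a i).e) fun i j Z p q hpq => by
    have hp : p.left ≫ 𝒰.f i = q.left ≫ 𝒰.f j := congrArg CommaMorphism.left hpq
    refine Eq.trans (map_congr_left (g := (Over.homMk p.left rfl : Over.mk (p.left ≫ (a i).t) ⟶ Over.mk (a i).t)
      |> fun r => (Over.homMk (𝟙 Z.left) ((Category.id_comp _).trans (Over.w p)) : Z ⟶ Over.mk (p.left ≫ (a i).t)) ≫ r) (by simp) _) ?_
    rw [← RepCoverLib.map_map]
    refine Eq.trans (Pt.map_eq (ha i j Z.left p.left q.left hp) _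
      (Over.homMk (𝟙 Z.left) ((Category.id_comp _).trans (Over.w q)) : Z ⟶ Over.mk (q.left ≫ (a j).t)) rfl) ?_
    show Φ.map _ (Φ.map _ (a j).e) = _
    rw [RepCoverLib.map_map]
    exact map_congr_left (by simp) _
  refine ⟨⟨t, e⟩, fun i => Pt.ext' (ht i) ?_, fun Q hQ => ?_⟩
  · show Φ.map _ (a i).e = Φ.map _ e
    rw [← he i, RepCoverLib.map_map]
    exact map_congr_left (by simp [g]) _
  · have htQ : Q.t = t := 𝒰.hom_ext _ _ fun i => (congrArg Pt.t (hQ i)).trans (ht i).symm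
    refine Pt.ext' htQ ?_
    let g' : ∀ i, Over.mk (a i).t ⟶ Over.mk Q.t := fun i => Over.homMk (𝒰.f i) (congrArg Pt.t (hQ i))
    refine hΦ.ext g' (fun i => inferInstanceAs (IsOpenImmersion (𝒰.f i))) hcov _ _ fun i => ?_
    rw [RepCoverLib.map_map]
    refine Eq.trans (map_congr_left (g := g i) (by simp [g, g']) _) ((he i).trans ?_)
    refine (Pt.e_eq (hQ i).symm).symm.trans ?_
    show Φ.map _ (Φ.map _ Q.e) = _
    rw [RepCoverLib.map_map]
    exact map_congr_left (by simp [g']) _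

/-- The inclusion of an open of a test object. -/
abbrev oo {T : Over S} (O : T.left.Opens) : Over.mk (O.ι ≫ T.hom) ⟶ T := Over.homMk O.ι rfl

section Charts

variable {ι : Type u} (Z : ι → Over S) (ξ : ∀ i, Φ.obj (op (Z i)))

/-- The universal point of a chart. -/
def chartPt (i : ι) : Pt Φ (Z i).left := ⟨(Z i).hom, ξ i⟩

/-- The map defined by a chart. -/
def chartMap (i : ι) : yoneda.obj (Z i).left ⟶ ptF Φ :=
  yonedaEquiv.symm (show (ptF Φ).obj (op (Z i).left) from chartPt Z ξ i)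

theorem chartMap_app (i : ι) {T : Scheme.{u}} (a : T ⟶ (Z i).left) :
    (chartMap Z ξ i).app (op T) a = (chartPt Z ξ i).map a :=
  yonedaEquiv_symm_app_apply (F := ptF Φ) _ (op T) a

theorem exists_lift_pt (i : ι) {T : Scheme.{u}} (Q : Pt Φ T) (O : T.Opens)
    (h : ∃ a : Over.mk (O.ι ≫ Q.t) ⟶ Z i, Φ.map a.op (ξ i) =
      Φ.map (Over.homMk O.ι rfl : Over.mk (O.ι ≫ Q.t) ⟶ Over.mk Q.t).op Q.e) :
    ∃ a : O.toScheme ⟶ (Z i).left, (chartPt Z ξ i).map a = Q.map O.ι := by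
  obtain ⟨a, ha⟩ := h
  refine ⟨a.left, Pt.ext' (Over.w a) ?_⟩
  let r : Over.mk (a.left ≫ (Z i).hom) ⟶ Over.mk (O.ι ≫ Q.t) :=
    Over.homMk (𝟙 _) ((Category.id_comp _).trans (Over.w a).symm)
  show Φ.map r.op (Φ.map _ Q.e) = Φ.map (Over.homMk a.left rfl : Over.mk (a.left ≫ (Z i).hom) ⟶ Z i).op (ξ i)
  rw [← ha]
  exact (map_map _ _ _).trans (map_congr_left (Category.id_comp _) _)

theorem pt_e_of_map_eq (i : ι) {T T' : Scheme.{u}} (Q : Pt Φ T) (x : T' ⟶ (Z i).left) (y : T' ⟶ T)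
    (h : (chartPt Z ξ i).map x = Q.map y) :
    Φ.map (Over.homMk x (congrArg Pt.t h) : Over.mk (y ≫ Q.t) ⟶ Z i).op (ξ i) =
      Φ.map (Over.homMk y rfl : Over.mk (y ≫ Q.t) ⟶ Over.mk Q.t).op Q.e := by
  refine Eq.trans ?_ (Pt.e_eq h.symm)
  refine Eq.trans ?_ (map_map _ _ _).symm
  exact map_congr_left (Category.id_comp _).symm _

theorem chartMap_presheaf (i : ι)
    (hinj : ∀ (T : Over S) (b b' : T ⟶ Z i), Φ.map b.op (ξ i) = Φ.map b'.op (ξ i) → b = b')
    (O : ∀ (T : Over S), Φ.obj (op T) → T.left.Opens)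
    (hlift : ∀ (T : Over S) (z : Φ.obj (op T)),
      ∃ a : Over.mk ((O T z).ι ≫ T.hom) ⟶ Z i, Φ.map a.op (ξ i) = Φ.map (oo (O T z)).op z)
    (hmax : ∀ (T : Over S) (z : Φ.obj (op T)) (T' : Over S) (g : T' ⟶ T) (b : T' ⟶ Z i),
      Φ.map b.op (ξ i) = Φ.map g.op z → Set.range g.left ⊆ (O T z : Set T.left)) :
    IsOpenImmersion.presheaf (chartMap Z ξ i) := MorphismProperty.relative.of_exists fun T q => by
  let Q : Pt Φ T := yonedaEquiv q
  let OQ : T.Opens := O (Over.mk Q.t) Q.e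
  obtain ⟨a, ha⟩ := exists_lift_pt Z ξ i Q OQ (hlift (Over.mk Q.t) Q.e)
  have hq : ∀ (Y : Scheme.{u}) (h : Y ⟶ T), q.app (op Y) h = Q.map h := fun Y h =>
    (map_yonedaEquiv q h).symm
  refine ⟨OQ.toScheme, yoneda.map a, OQ.ι, ?_, inferInstanceAs (IsOpenImmersion OQ.ι)⟩
  refine IsPullback.of_forall_isPullback_app fun Y => ?_
  rw [Types.isPullback_iff]
  refine ⟨?_, ?_, ?_⟩
  · ext (h : Y.unop ⟶ OQ.toScheme)
    show (chartMap Z ξ i).app Y (h ≫ a) = q.app Y (h ≫ OQ.ι)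
    refine (chartMap_app Z ξ i (h ≫ a)).trans (Eq.trans ?_ (hq Y.unop (h ≫ OQ.ι)).symm)
    rw [← Pt.map_map, ha, Pt.map_map]
  · rintro x₁ x₂ ⟨-, h2⟩
    exact (cancel_mono OQ.ι).1 (show x₁ ≫ OQ.ι = x₂ ≫ OQ.ι from h2)
  · intro (x₂ : Y.unop ⟶ (Z i).left) (x₃ : Y.unop ⟶ T) hx
    have hrel : (chartPt Z ξ i).map x₂ = Q.map x₃ :=
      (chartMap_app Z ξ i x₂).symm.trans (hx.trans (hq Y.unop x₃))
    have hr : Set.range x₃ ⊆ Set.range OQ.ι := by
      rw [Scheme.Opens.range_ι]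
      exact hmax (Over.mk Q.t) Q.e (Over.mk (x₃ ≫ Q.t)) (Over.homMk x₃ rfl) _ (pt_e_of_map_eq Z ξ i Q x₂ x₃ hrel)
    let l : Y.unop ⟶ OQ.toScheme := IsOpenImmersion.lift OQ.ι x₃ hr
    have hl : l ≫ OQ.ι = x₃ := IsOpenImmersion.lift_fac _ _ _
    have hla : (chartPt Z ξ i).map (l ≫ a) = Q.map x₃ := by rw [← Pt.map_map, ha, Pt.map_map, hl]
    refine ⟨l, ?_, hl⟩
    show l ≫ a = x₂
    exact congrArg CommaMorphism.left (hinj (Over.mk (x₃ ≫ Q.t)) _ _
      ((pt_e_of_map_eq Z ξ i Q (l ≫ a) x₃ hla).trans (pt_e_of_map_eq Z ξ i Q x₂ x₃ hrel).symm))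

end Charts

theorem bijective_pt (G : Scheme.{u}) (R : (ptF Φ).RepresentableBy G) :
    let η : Pt Φ G := R.homEquiv (𝟙 G)
    ∀ T : Over S, Function.Bijective fun v : T ⟶ Over.mk η.t => Φ.map v.op η.e := by
  intro η
  have hη : ∀ {T : Scheme.{u}} (h : T ⟶ G), (R.homEquiv h : Pt Φ T) = η.map h := fun {T} h => by
    have h1 := R.homEquiv_comp h (𝟙 G)
    rw [Category.comp_id] at h1
    exact h1
  refine fun T => ⟨fun v v' h => ?_, fun z => ?_⟩
  · refine Over.OverMorphism.ext (R.homEquiv.injective ?_)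
    rw [hη, hη]
    refine Pt.ext' ((Over.w v).trans (Over.w v').symm) ?_
    refine (map_map _ _ _).trans ?_
    let r : Over.mk (v.left ≫ η.t) ⟶ T := Over.homMk (𝟙 _) ((Category.id_comp _).trans (Over.w v).symm)
    refine (map_congr_left (g := r ≫ v') rfl _).trans ?_
    refine (map_map v' r η.e).symm.trans ?_
    rw [← show Φ.map v.op η.e = Φ.map v'.op η.e from h]
    exact (map_map _ _ _).trans (map_congr_left (Category.id_comp _) _)
  · obtain ⟨h, hh⟩ := R.homEquiv.surjective (⟨T.hom, z⟩ : Pt Φ T.left)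
    rw [hη] at hh
    refine ⟨Over.homMk h (congrArg Pt.t hh), ?_⟩
    refine Eq.trans ?_ (Pt.e_eq hh.symm)
    show _ = Φ.map _ (Φ.map _ η.e)
    let r : T ⟶ Over.mk (h ≫ η.t) := Over.homMk (𝟙 T.left) ((Category.id_comp _).trans (congrArg Pt.t hh))
    refine Eq.trans ?_ (map_map (Over.homMk h rfl : Over.mk (h ≫ η.t) ⟶ Over.mk η.t) r η.e).symm
    exact map_congr_left (Category.id_comp _).symm _

/-- A Zariski sheaf covered by representable open subfunctors is representable. -/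
theorem exists_rep (hΦ : IsZarSheaf Φ) {ι : Type u} (Z : ι → Over S) (ξ : ∀ i, Φ.obj (op (Z i)))
    (hinj : ∀ i (T : Over S) (b b' : T ⟶ Z i), Φ.map b.op (ξ i) = Φ.map b'.op (ξ i) → b = b')
    (O : ∀ (_ : ι) (T : Over S), Φ.obj (op T) → T.left.Opens)
    (hlift : ∀ i (T : Over S) (z : Φ.obj (op T)),
      ∃ a : Over.mk ((O i T z).ι ≫ T.hom) ⟶ Z i, Φ.map a.op (ξ i) = Φ.map (oo (O i T z)).op z)
    (hmax : ∀ i (T : Over S) (z : Φ.obj (op T)) (T' : Over S) (g : T' ⟶ T) (b : T' ⟶ Z i),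
      Φ.map b.op (ξ i) = Φ.map g.op z → Set.range g.left ⊆ (O i T z : Set T.left))
    (hcov : ∀ (T : Over S) (z : Φ.obj (op T)) (x : T.left), ∃ i, x ∈ O i T z) :
    ∃ M : Over S, Nonempty (Φ.RepresentableBy M) := by
  classical
  let F : Sheaf Scheme.zariskiTopology.{u} (Type u) := ⟨ptF Φ, isSheaf_ptF hΦ⟩
  let c : ∀ i, yoneda.obj (Z i).left ⟶ F.1 := fun i => chartMap Z ξ i
  have hopen : ∀ i, IsOpenImmersion.presheaf (c i) := fun i =>
    chartMap_presheaf Z ξ i (hinj i) (O i) (hlift i) (hmax i)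
  haveI : Presheaf.IsLocallySurjective Scheme.zariskiTopology (Sigma.desc c) := ⟨fun {T} (Q : Pt Φ T) => by
    choose i hi using hcov (Over.mk Q.t) Q.e
    let OQ : T → T.Opens := fun x => O (i x) (Over.mk Q.t) Q.e
    let 𝒰 : T.OpenCover := T.openCoverOfIsOpenCover OQ
      (top_le_iff.1 fun x _ => Opens.mem_iSup.2 ⟨x, hi x⟩)
    refine GrothendieckTopology.superset_covering _ ?_ 𝒰.mem_grothendieckTopology
    rw [Sieve.generate_le_iff]
    rintro _ _ ⟨x⟩
    obtain ⟨a, ha⟩ := exists_lift_pt Z ξ (i x) Q (OQ x) (hlift (i x) (Over.mk Q.t) Q.e)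
    refine ⟨(Sigma.ι (fun j => yoneda.obj (Z j).left) (i x)).app _ a, ?_⟩
    show ((Sigma.ι _ (i x)) ≫ Sigma.desc c).app _ a = _
    rw [Sigma.ι_desc]
    exact (chartMap_app Z ξ _ a).trans ha⟩
  obtain ⟨G, ⟨R⟩⟩ := (Scheme.LocalRepresentability.isRepresentable (F := F) hopen).has_representation
  exact ⟨_, ⟨{ homEquiv := fun {T} => Equiv.ofBijective _ (bijective_pt G R T)
               homEquiv_comp := fun f g => (map_map g f _).symm }⟩⟩

end RepCoverLib

end
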